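import Cfsg.Agent.H25.GeoLists.SpFour.Line
import Cfsg.Agent.H98.MaximalSpSubfield

set_option autoImplicit false
set_option linter.unusedSectionVars false

/-!
In characteristic two the subfield subgroup of a prime index subfield is maximal in the symplectic group of any
rank at least two. The argument is that of `H98.MaximalSpSubfield`.
-/

namespace Cfsg.Agent.H25.SpFour

open Cfsg.Agent.H98
open scoped Matrix

variable {m : ℕ} {F : Type*} [Field F]

local notation "V" => (Fin m ⊕ Fin m → F)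
local notation "Mat" => Matrix (Fin m ⊕ Fin m) (Fin m ⊕ Fin m) F
local notation "β" => Cfsg.Agent.H2.sympBilin m F

variable {F₀ : Subfield F}
variable [Fintype F] [NeZero m] {r : ℕ}

/-- The subfield subgroup is maximal in the symplectic group. -/
theorem sp_subfield_maximal₂ (hm : 2 ≤ m) (h2c : (2 : F) = 0) (hr : r.Prime) (hcard : Fintype.card F = Nat.card F₀ ^ r) :
    Cfsg.Geo.IsMaximalIn (Cfsg.spGL m F) (subGroupF (Fin m ⊕ Fin m) F₀ ⊓ Cfsg.spGL m F) := by
  classical
  haveI := Fintype.ofFinite F₀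
  set i0 : Fin m := ⟨0, by omega⟩
  set i1 : Fin m := ⟨1, by omega⟩
  have h01 : i0 ≠ i1 := by simp [i0, i1, Fin.ext_iff]
  have hstrict : ∃ x ∈ Cfsg.spGL m F, x ∉ subGroupF (Fin m ⊕ Fin m) F₀ ⊓ Cfsg.spGL m F := by
    obtain ⟨c, hc⟩ : ∃ c : F, c ∉ F₀ := by
      by_contra hall; push Not at hall
      have h1 : Fintype.card F ≤ Fintype.card F₀ :=
        Fintype.card_le_of_injective (fun c => (⟨c, hall c⟩ : F₀)) fun a b h => congrArg Subtype.val h
      rw [hcard, Nat.card_eq_fintype_card] at h1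
      have h2 := Nat.pow_lt_pow_right (Fintype.one_lt_card (α := F₀)) hr.one_lt
      rw [pow_one] at h2; omega
    refine ⟨spTrans (eV i0) c, spTrans_mem _ _, fun h => hc ?_⟩
    have hfix : (spTrans (eV i0 : V) c : Mat) *ᵥ eV i0 = eV i0 := by
      rw [spTrans_mulVec, beta_self, mul_zero, zero_smul, add_zero]
    have h1 := mulVec_rat (rational_of_fix h.1 (isRat_eV i0) (eV_ne_zero i0) hfix) (isRat_fV (F₀ := F₀) i0) (.inl i0)
    rw [spTrans_mulVec, beta_fV] at h1
    simpa [eV, fV] using h1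
  refine isMaximalIn_of inf_le_right hstrict fun M h1 h2 g hgM hgH => ?_
  by_contra hcon
  have hM : IsSpProperOver F₀ M := ⟨h1, h2, hcon⟩
  have hgS : g ∉ subGroupF (Fin m ⊕ Fin m) F₀ := fun h => hgH ⟨h, h2 hgM⟩
  set v := (g : Mat) *ᵥ eV i0 with hv
  have hkey : ∀ u' : V, IsRatVec F₀ u' → u' ≠ 0 → β u' v ≠ 0 := fun u' hu' hu'0 h =>
    hgS (sp_rat_orth_mem hm h2c hr hcard hM hgM (isRat_eV i0) (eV_ne_zero i0) hu' hu'0 h)
  have hrm : 2 * m ≤ r := by
    by_contra hrn
    push Not at hrn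
    let T : (Fin m ⊕ Fin m → F₀) → F := fun a => β (fun x => (a x : F)) v
    have hTni : ¬ Function.Injective T := fun hT => by
      have := Fintype.card_le_of_injective T hT
      rw [Fintype.card_fun, Fintype.card_sum, Fintype.card_fin, hcard, Nat.card_eq_fintype_card] at this
      exact absurd this (not_le.mpr (Nat.pow_lt_pow_right (Fintype.one_lt_card (α := F₀)) (by omega)))
    obtain ⟨a, a', haa, hne⟩ := Function.not_injective_iff.mp hTni
    refine hkey ((fun x => (a x : F)) - fun x => (a' x : F))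
      (isRat_sub (fun x => (a x).2) fun x => (a' x).2)
      (fun h => hne (funext fun x => Subtype.ext (sub_eq_zero.mp (congrFun h x)))) ?_
    rw [map_sub, LinearMap.sub_apply, sub_eq_zero]
    exact haa
  haveI : CharP F 2 := CharTwo.of_one_ne_zero_of_two_eq_zero one_ne_zero h2c
  haveI : Fact (Nat.Prime 2) := ⟨Nat.prime_two⟩
  have hsq : ∀ c : F, c * c ∈ F₀ → c ∈ F₀ := fun c hc => mem_subfield_of_pow_char 2 F₀ (by rwa [pow_two])
  have hww : ∀ w : V, w + w = 0 := fun w => by rw [← two_smul F, h2c, zero_smul]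
  set i := spX (eV i0) (eV i1) (1 : F) with hidef
  have he01 : β (eV i0 : V) (eV i1) = 0 := by rw [beta_eV]; simp [eV]
  have hiS := spX_rat (F₀ := F₀) (isRat_eV i0) (isRat_eV i1) (one_mem _)
  have hiM : i ∈ M := h1 hiS
  have hiv : ∀ w, (i : Mat) *ᵥ w = w + w (.inr i1) • eV i0 + w (.inr i0) • eV i1 := fun w => by
    rw [hidef, spX_mulVec he01, beta_eV_right, beta_eV_right, one_smul]; module
  have hii : i * i = 1 := by
    rw [hidef, spX_add he01, one_add_one_eq_two, h2c]
    exact gl_ext fun w => by simp [spX_mulVec he01]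
  set j := g * spTrans (eV i0) 1 * g⁻¹ with hjdef
  have hj : j = spTrans v 1 := conj_spTrans (h2 hgM) _ _
  have hjM : j ∈ M := M.mul_mem (M.mul_mem hgM (h1 (spTrans_rat (isRat_eV i0) (one_mem _)))) (M.inv_mem hgM)
  have hjj : j * j = 1 := by rw [hj, spTrans_add, one_add_one_eq_two, h2c, spTrans_zero]
  have hv0 : v ≠ 0 := fun h => by
    have := hkey (eV i0) (isRat_eV i0) (eV_ne_zero i0)
    rw [h, map_zero] at this; exact this rfl
  have hjH : j ∉ subGroupF (Fin m ⊕ Fin m) F₀ := fun h => by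
    have hrat := rational_of_invol hsq hjj h
    obtain ⟨z, hz, hzv, -⟩ := exists_rat_pair (F₀ := F₀) hv0 hv0
    have h3 : IsRatVec F₀ (β z v • v) := by
      have h4 := isRat_sub (mulVec_rat hrat hz) hz
      rwa [hj, spTrans_mulVec, add_sub_cancel_left, one_mul] at h4
    exact hkey _ h3 (smul_ne_zero hzv hv0) (by rw [map_smul, LinearMap.smul_apply, beta_self, smul_zero])
  rcases involution_pair hii hjj with hconj | ⟨k, hz1, hzz, hzi, hzj⟩
  · obtain ⟨c, hc⟩ := isConj_iff.mp hconj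
    have hi' : i = c⁻¹ * j * c := by rw [← hc]; group
    set A := ((c⁻¹ : GL (Fin m ⊕ Fin m) F) : Mat) *ᵥ v
    have hform : ∀ w, ∃ α : F, (i : Mat) *ᵥ w = w + α • A := fun w => by
      rw [hi', hj]
      simp only [Units.val_mul, ← Matrix.mulVec_mulVec, spTrans_mulVec, Matrix.mulVec_add, Matrix.mulVec_smul,
        gl_inv_mulVec]
      exact ⟨_, rfl⟩
    obtain ⟨α, hα⟩ := hform (fV i1)
    obtain ⟨γ, hγ⟩ := hform (fV i0)
    rw [hiv] at hα hγ
    have a0 := congrFun hα (.inl i0)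
    have b0 := congrFun hγ (.inl i0)
    have b1 := congrFun hγ (.inl i1)
    simp [eV, fV, h01, h01.symm] at a0 b0 b1
    rcases b0 with h | h
    · rw [h, zero_mul] at b1; exact one_ne_zero b1
    · rw [h, mul_zero] at a0; exact one_ne_zero a0
  · set z := (i * j) ^ k
    have hzM : z ∈ M := M.pow_mem (M.mul_mem hiM hjM) k
    have hzS : z ∈ subGroupF (Fin m ⊕ Fin m) F₀ := by
      refine sp_rat_orth_mem hm h2c hr hcard hM hzM (isRat_eV i0) (eV_ne_zero i0) (isRat_eV i0) (eV_ne_zero i0) ?_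
      have e0 : (i : Mat) *ᵥ fV i1 - fV i1 = eV i0 := by
        rw [hiv]; simp [fV, h01]
      have e1 : (z : Mat) *ᵥ eV i0 =
          (i : Mat) *ᵥ ((z : Mat) *ᵥ fV i1) - (z : Mat) *ᵥ fV i1 := by
        conv_lhs => rw [← e0]
        rw [Matrix.mulVec_sub, Matrix.mulVec_mulVec, ← Units.val_mul, hzi, Units.val_mul, Matrix.mulVec_mulVec]
      rw [e1, hiv, add_assoc, add_sub_cancel_left, map_add, map_smul, map_smul, beta_self, he01, smul_zero,
        smul_zero, add_zero]
    have hzrat := rational_of_invol hsq hzz hzS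
    obtain ⟨x, hx⟩ : ∃ x, (z : Mat) *ᵥ Pi.single x 1 - Pi.single x 1 ≠ 0 := by
      by_contra hall; push Not at hall
      refine hz1 (gl_ext fun w => ?_)
      rw [Units.val_one, Matrix.one_mulVec, pi_eq_sum_univ' w, Matrix.mulVec_sum]
      exact Finset.sum_congr rfl fun y _ => by rw [Matrix.mulVec_smul, sub_eq_zero.mp (hall y)]
    have hur : IsRatVec F₀ ((z : Mat) *ᵥ Pi.single x 1 - Pi.single x 1) :=
      isRat_sub (mulVec_rat hzrat (isRat_single x)) (isRat_single x)
    refine hjH (sp_rat_orth_mem hm h2c hr hcard hM hjM hur hx hur hx ?_)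
    rw [Matrix.mulVec_sub, Matrix.mulVec_mulVec, ← Units.val_mul, ← hzj, Units.val_mul, ← Matrix.mulVec_mulVec]
    set a : V := Pi.single x 1
    set b : V := (j : Mat) *ᵥ a
    have hiso := mem_spGL.mp (h2 hzM)
    have e3 : β ((z : Mat) *ᵥ a) b = β a ((z : Mat) *ᵥ b) := by
      conv_lhs => rw [← hiso, Matrix.mulVec_mulVec, ← Units.val_mul, hzz, Units.val_one, Matrix.one_mulVec]
    simp only [map_sub, LinearMap.sub_apply, hiso, e3]
    linear_combination (β a b - β a ((z : Mat) *ᵥ b)) * h2c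

/-- The subfield subgroup of a rational structure is maximal in the symplectic group. -/
theorem sp_subfield_maximal₂' (hm : 2 ≤ m) (h2c : (2 : F) = 0) (hr : r.Prime) (hcard : Fintype.card F = Nat.card F₀ ^ r)
    (P : GL (Fin m ⊕ Fin m) F) (ζ : F) (hζ : ζ ≠ 0)
    (hP : Cfsg.Geo.IsFormRationalStructure (Cfsg.sympForm m F) F₀ ζ P) :
    Cfsg.Geo.IsMaximalIn (Cfsg.spGL m F) (Cfsg.Geo.subfieldSubgroup F₀ P ⊓ Cfsg.spGL m F) := by
  obtain ⟨Q, hQ, hQsim⟩ := exists_similitude_frame ζ hζ P hP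
  have h := isMaximalIn_conj Q (sp_subfield_maximal₂ hm h2c hr hcard)
  rw [Subgroup.map_inf _ _ _ (MulAut.conj Q).injective, spGL_map_similitude (inv_ne_zero hζ) hQsim,
    ← subfieldSubgroup_eq_map, hQ] at h
  exact h

end Cfsg.Agent.H25.SpFour
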